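import Groth.Agent.ShStab.K848.Stab
import Groth.Agent.ShStab.K849.Reflex
import Groth.Agent.ShStab.K847.StabBasic
import Groth.Agent.CAlg.K63.TorsionFree

/-!
# Slope bookkeeping on an integral proper scheme, and reflexive modules (namespace `K169.Defect`)

`X` integral, proper over a field `k`, of dimension `n`, `H` ample.  For `μ : ℚ` and `F` coherent
`dfc k H n μ F = μ · α_n(F) - α_{n-1}(F)` (the defect).

* `dfc_add`, `dfc_iso`, `dfc_nonpos` (torsion modules have defect at most zero);
* `Nn k H n μ F`: every coherent submodule of `F` has defect at least zero; `Nn.mono`, `Nn.ext`, `Nn.of_isInvertible`;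
* `isIso_of_dfc`: a monomorphism between reflexive modules of the same rank on a regular `X`
  with `dfc F ≤ dfc G` is an isomorphism;
* `isReflexive_of_retract`, `isReflexive_kernel`, `isReflexive_of_isFinLocFree`.
-/

set_option autoImplicit false
universe u
open CategoryTheory CategoryTheory.Limits AlgebraicGeometry Opposite TopologicalSpace Polynomial

namespace K169.Defect

open ShStab StabCat Groth.Agent.CycB.StalkExact Groth.Agent.Divis.StalkMod Groth.Agent.Fga.SnapperTwist
open K848.Rank K848.Hull K848.Poly K848.HB K848.TF K848.Dim K848.Stab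

section Sheaf

variable {X : Scheme.{u}}

theorem kernel_factorThruImage {T L : X.Modules} (u : T ⟶ L) : kernel.ι u ≫ Abelian.factorThruImage u = 0 := by
  rw [← cancel_mono (Abelian.image.ι u), Category.assoc, Abelian.image.fac, kernel.condition, Limits.zero_comp]

/-- `0 ⟶ ker u ⟶ T ⟶ im u ⟶ 0`. -/
theorem shortExact_image {T L : X.Modules} (u : T ⟶ L) :
    (ShortComplex.mk (kernel.ι u) (Abelian.factorThruImage u) (kernel_factorThruImage u)).ShortExact :=
  { exact := by
      let φ : ShortComplex.mk (kernel.ι u) (Abelian.factorThruImage u) (kernel_factorThruImage u) ⟶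
          ShortComplex.mk (kernel.ι u) u (kernel.condition u) :=
        { τ₁ := 𝟙 _, τ₂ := 𝟙 _, τ₃ := Abelian.image.ι u }
      have : Epi φ.τ₁ := inferInstanceAs (Epi (𝟙 _))
      have : IsIso φ.τ₂ := inferInstanceAs (IsIso (𝟙 _))
      have : Mono φ.τ₃ := inferInstanceAs (Mono (Abelian.image.ι u))
      exact (ShortComplex.exact_iff_of_epi_of_isIso_of_mono φ).mpr (ShortComplex.exact_kernel u)
    mono_f := inferInstanceAs (Mono (kernel.ι u))
    epi_g := inferInstanceAs (Epi (Abelian.factorThruImage u)) }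

/-- Direct summands of coherent reflexive modules are reflexive. -/
theorem isReflexive_of_retract [IsLocallyNoetherian X] {F G : X.Modules} (hF : Coh.IsCoh F) (hG : Coh.IsCoh G)
    (i : G ⟶ F) (p : F ⟶ G) (h : i ≫ p = 𝟙 G) (hr : RefHull.IsReflexive F) : RefHull.IsReflexive G := by
  rw [K476.HomSh4.isReflexive_iff_isReflexiveAt hG]
  rw [K476.HomSh4.isReflexive_iff_isReflexiveAt hF] at hr
  intro x
  have hx : Module.IsReflexive (X.presheaf.stalk x) (F.presheaf.stalk x) := hr x
  change Module.IsReflexive (X.presheaf.stalk x) (G.presheaf.stalk x)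
  refine Module.IsReflexive.of_split (stalkLin i x) (stalkLin p x) ?_
  rw [← stalkLin_comp, h]
  ext m
  simp

theorem isReflexive_iso [IsLocallyNoetherian X] {F G : X.Modules} (hF : Coh.IsCoh F) (e : F ≅ G)
    (hr : RefHull.IsReflexive F) : RefHull.IsReflexive G :=
  isReflexive_of_retract hF (Groth.Agent.Sga67.CohBasic.isCoh_of_iso e hF) e.inv e.hom e.inv_hom_id hr

/-- The kernel of a map from a coherent reflexive module to a torsion free module is reflexive. -/
theorem isReflexive_of_exact [IsIntegral X] [IsLocallyNoetherian X] {F G Q : X.Modules} (hF : Coh.IsCoh F)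
    (hG : Coh.IsCoh G) (hr : RefHull.IsReflexive G) (hQ : TorSh.IsTorsionFree Q) (i : F ⟶ G) (p : G ⟶ Q) [Mono i]
    (w : i ≫ p = 0) (hex : (ShortComplex.mk i p w).Exact) : RefHull.IsReflexive F := by
  rw [K476.HomSh4.isReflexive_iff_isReflexiveAt hF]
  rw [K476.HomSh4.isReflexive_iff_isReflexiveAt hG] at hr
  intro x
  have hx : Module.IsReflexive (X.presheaf.stalk x) (G.presheaf.stalk x) := hr x
  have hq : Module.IsTorsionFree (X.presheaf.stalk x) (Q.presheaf.stalk x) := hQ x
  have := finite_stalk hF x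
  exact K63.TorsionFree.isReflexive_of_exact (stalkLin i x) (stalkLin p x) (stalkLin_injective i x)
    (stalkLin_exact _ hex x)

/-- Finite locally free modules are reflexive. -/
theorem isReflexive_of_isFinLocFree [IsLocallyNoetherian X] {F : X.Modules} (hF : FlatMod.IsFinLocFree F) :
    RefHull.IsReflexive F := by
  rw [K476.HomSh4.isReflexive_iff_isReflexiveAt (Groth.Agent.PerfA.CohSerre.isCoh_of_isFinLocFree hF)]
  intro x
  obtain ⟨U, n, hx, ⟨e⟩⟩ := hF x
  have h1 : Module.Free (X.presheaf.stalk x) (F.presheaf.stalk x) := Module.Free.of_basis (basisOfTriv e hx)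
  have h2 : Module.Finite (X.presheaf.stalk x) (F.presheaf.stalk x) := Module.Finite.of_basis (basisOfTriv e hx)
  change Module.IsReflexive (X.presheaf.stalk x) (F.presheaf.stalk x)
  infer_instance

/-- A monomorphism from a coherent reflexive module to another with cokernel supported in codimension at least
two is an isomorphism. -/
theorem isIso_of_codim [IsIntegral X] [IsLocallyNoetherian X]
    (hreg : ∀ x : X, IsRegularLocalRing (X.presheaf.stalk x)) {F G : X.Modules}
    (hF : Coh.IsCoh F) (hFr : RefHull.IsReflexive F) (hG : Coh.IsCoh G) (hGr : RefHull.IsReflexive G)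
    (φ : F ⟶ G) [Mono φ]
    (h : ∀ x ∈ CohB1.support (cokernel φ), (2 : WithBot ℕ∞) ≤ ringKrullDim (X.presheaf.stalk x)) : IsIso φ := by
  have hc : Coh.IsCoh (cokernel φ) := Groth.Agent.PerfA.CohSerre.isCoh_cokernel φ hF.1 hG
  have hcl : IsClosed (CohB1.support (cokernel φ)) := Groth.Agent.S0020.result X _ hc.2
  let U : X.Opens := ⟨(CohB1.support (cokernel φ))ᶜ, hcl.isOpen_compl⟩
  have hBig : K848.Hartogs.Big U := fun x hx => h x (by
    by_contra hne
    exact hx hne)
  refine K849.Reflex.isIso_of_big (isIntegrallyClosed_of_regular hreg) hBig hF hFr hG hGr φ fun x hx => ?_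
  exact ⟨stalkLin_injective φ x, (K848.Hartogs.not_mem_support_cokernel_iff φ x).1 hx⟩

end Sheaf

section Num

variable (k : Type u) [Field k] {X : Scheme.{u}} [X.Over (Spec (CommRingCat.of k))]

/-- The defect `μ · α_n(F) - α_{n-1}(F)`. -/
noncomputable def dfc (H : X.Modules) (n : ℕ) (μ : ℚ) (F : X.Modules) : ℚ :=
  μ * alpha n (hp k H F) - alpha (n - 1) (hp k H F)

/-- Every coherent submodule has non-negative defect. -/
def Nn (H : X.Modules) (n : ℕ) (μ : ℚ) (F : X.Modules) : Prop :=
  ∀ (G : X.Modules) (i : G ⟶ F), Mono i → Coh.IsCoh G → 0 ≤ dfc k H n μ G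

variable {k}

theorem Nn.of_mono {H : X.Modules} {n : ℕ} {μ : ℚ} {F G : X.Modules} (h : Nn k H n μ F) (i : G ⟶ F) [Mono i] :
    Nn k H n μ G := fun A j _ hA => h A (j ≫ i) (mono_comp j i) hA

variable (k) [IsProper (X ↘ Spec (CommRingCat.of k))] {H : X.Modules}

theorem dfc_add (hH : PicF.IsInvertible H) {n : ℕ} {μ : ℚ} {S : ShortComplex X.Modules} (hS : S.ShortExact)
    (h1 : Coh.IsCoh S.X₁) (h2 : Coh.IsCoh S.X₂) (h3 : Coh.IsCoh S.X₃) :
    dfc k H n μ S.X₂ = dfc k H n μ S.X₁ + dfc k H n μ S.X₃ := by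
  unfold dfc
  rw [hp_add k hH hS h1 h2 h3, alpha_add, alpha_add]
  ring

theorem dfc_iso (hH : PicF.IsInvertible H) {n : ℕ} {μ : ℚ} {F G : X.Modules} (hF : Coh.IsCoh F) (e : F ≅ G) :
    dfc k H n μ G = dfc k H n μ F := by
  unfold dfc
  rw [hp_iso k hH hF e]

theorem dfc_isZero (hH : PicF.IsInvertible H) {n : ℕ} {μ : ℚ} {F : X.Modules} (hF : IsZero F) :
    dfc k H n μ F = 0 := by
  unfold dfc
  rw [hp_isZero k hH hF]
  simp [alpha]

theorem Nn.of_isZero (hH : PicF.IsInvertible H) {n : ℕ} {μ : ℚ} {F : X.Modules} (hF : IsZero F) :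
    Nn k H n μ F := fun G i _ _ => by
  rw [dfc_isZero k hH (IsZero.of_mono i hF)]

/-- Extensions: every coherent submodule of the middle term has non-negative defect. -/
theorem Nn.ext (hH : PicF.IsInvertible H) {n : ℕ} {μ : ℚ} {S : ShortComplex X.Modules} (hS : S.ShortExact)
    (hc : Coh.IsCoh S.X₃) (h1 : Nn k H n μ S.X₁) (h3 : Nn k H n μ S.X₃) : Nn k H n μ S.X₂ := by
  intro G i hi hG
  have hN := K847.StabBasic.isCoh_kernel' k (i ≫ S.g) hG hc
  -- the kernel of `G ⟶ X₃` embeds into `X₁`
  have := hS.mono_f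
  let j : kernel (i ≫ S.g) ⟶ S.X₁ := hS.exact.lift (kernel.ι (i ≫ S.g) ≫ i) (by
    rw [Category.assoc, kernel.condition])
  have hj : j ≫ S.f = kernel.ι (i ≫ S.g) ≫ i := hS.exact.lift_f _ _
  have hjm : Mono j := by
    have : Mono (j ≫ S.f) := by
      rw [hj]
      exact mono_comp _ _
    exact mono_of_mono j S.f
  have a1 := h1 _ j hjm hN
  have hI : Coh.IsCoh (Abelian.image (i ≫ S.g)) :=
    K847.StabBasic.isCoh_kernel' k _ hc (K847.StabBasic.isCoh_cokernel' k (i ≫ S.g) hG hc)
  have a3 := h3 _ (Abelian.image.ι (i ≫ S.g)) inferInstance hI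
  have hex := shortExact_image (i ≫ S.g)
  have := dfc_add k (n := n) (μ := μ) hH hex hN hG hI
  dsimp only at this
  rw [this]
  linarith

variable [IsIntegral X] {n : ℕ}

theorem dfc_nonpos (hH : CohB1.IsAmple H) (hn : topologicalKrullDim X = n) (μ : ℚ) {G : X.Modules}
    (hG : Coh.IsCoh G) (h : genericPoint X ∉ CohB1.support G) : dfc k H n μ G ≤ 0 := by
  unfold dfc
  rw [alpha_eq_zero_of_generic k hH.1 hn hG h]
  have := alpha_pred_nonneg k hH hn hG h
  linarith

theorem dfc_rk (hH : CohB1.IsAmple H) (hn : topologicalKrullDim X = n) (μ : ℚ) {G : X.Modules}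
    (hG : Coh.IsCoh G) : dfc k H n μ G =
      μ * (rk G * alpha n (hp k H (Coh.structureModule X))) - alpha (n - 1) (hp k H G) := by
  unfold dfc
  rw [alpha_rk k hH.1 hn hG]

/-- A submodule of the same rank has larger defect. -/
theorem dfc_le_of_rk_eq (hH : CohB1.IsAmple H) (hn : topologicalKrullDim X = n) (μ : ℚ) {F G : X.Modules}
    (φ : F ⟶ G) [Mono φ] (hF : Coh.IsCoh F) (hG : Coh.IsCoh G) (h : rk F = rk G) :
    dfc k H n μ G ≤ dfc k H n μ F := by
  rw [dfc_rk k hH hn μ hF, dfc_rk k hH hn μ hG, h]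
  have := alpha_pred_le k hH hn φ hF hG h
  linarith

/-- A monomorphism of reflexive modules of the same rank on a regular scheme which does not increase the defect
is an isomorphism. -/
theorem isIso_of_dfc (hreg : ∀ x : X, IsRegularLocalRing (X.presheaf.stalk x))
    (hH : CohB1.IsAmple H) (hn : topologicalKrullDim X = n) (μ : ℚ) {F G : X.Modules}
    (φ : F ⟶ G) [Mono φ] (hF : Coh.IsCoh F) (hG : Coh.IsCoh G) (hFr : RefHull.IsReflexive F)
    (hGr : RefHull.IsReflexive G) (h : rk F = rk G) (hd : dfc k H n μ F ≤ dfc k H n μ G) : IsIso φ := by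
  have := isNoetherian_of_proper k X
  refine isIso_of_codim hreg hF hFr hG hGr φ (codim_of_alpha_pred_eq k hH hn φ hF hG h ?_)
  rw [dfc_rk k hH hn μ hF, dfc_rk k hH hn μ hG, h] at hd
  linarith

/-- A line bundle of slope at most `μ`. -/
theorem Nn.of_isInvertible (hH : CohB1.IsAmple H) (hn : topologicalKrullDim X = n) {μ : ℚ} {L : X.Modules}
    (hL : PicF.IsInvertible L) (h0 : 0 ≤ dfc k H n μ L) : Nn k H n μ L := by
  intro G i hi hG
  have hN := isNoetherian_of_proper k X
  have hLc := isCoh_of_isInvertible hL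
  have hLt : TorSh.IsTorsionFree L := isTorsionFree_of_isFinLocFree (isFinLocFree_of_isInvertible hL)
  have hr : rk L = 1 := rk_structureModule_of_isInvertible hL
  have hle := rk_le_of_mono i hLc
  by_cases hz : IsZero G
  · rw [dfc_isZero k hH.1 hz]
  · have h1 := rk_ne_zero i hG hLt hz
    exact h0.trans (dfc_le_of_rk_eq k hH hn μ i hG hLc (by omega))

end Num

end K169.Defect
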