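import Groth.Agent.BunMod.K169.Polyst
import Groth.Agent.BunMod.K596.Iface
import Groth.Agent.BunMod.K231.Cov
import Groth.Agent.S7859
import Groth.Agent.Grpsch.MulFin
import Groth.Agent.S1535

/-!
# Slope polystability of Verlinde bundles on a principally polarised abelian variety (namespace `K169.PolyJ`)

* `polystable_of_pow`: `J` an abelian variety over a field of characteristic zero, `E` finite locally free and nonzero
  on `J`, `L` invertible with `[r]^* E ≅ L^(+v)`, `r ≥ 1`: for every ample `H`, `E` is slope-semistable and a finite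
  direct sum of slope-stable modules;
* `polystable_of_verD`: node F4 of the plan.
-/

set_option autoImplicit false
set_option linter.unusedSectionVars false
universe u
open CategoryTheory CategoryTheory.Limits AlgebraicGeometry MonoidalCategory CartesianMonoidalCategory MonObj

namespace K169.PolyJ

open Groth.Agent Groth.Agent.BunMod.K596 K169.SplitPow

/-- The rank of a finite flat morphism to a connected scheme is constant. -/
theorem exists_finrank {X Y : Scheme.{u}} (f : X ⟶ Y) [IsFinite f] [Flat f] [LocallyOfFinitePresentation f]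
    [PreconnectedSpace Y] [Nonempty X] : ∃ d : ℕ, 0 < d ∧ ∀ y : Y, f.finrank y = d := by
  obtain ⟨x⟩ : Nonempty X := inferInstance
  refine ⟨f.finrank (f x), f.one_le_finrank_map x, fun y => ?_⟩
  exact (Scheme.Hom.isLocallyConstant_finrank (f := f)).apply_eq_of_preconnectedSpace _ _

variable {k : Type u} [Field k]

theorem polystable_of_pow [CharZero k] (J : Over (Spec (CommRingCat.of k))) [GrpObj J] [IsProper J.hom] [Smooth J.hom]
    [GeometricallyIntegral J.hom] {g : ℕ} (hdim : topologicalKrullDim J.left = g) {r : ℕ} (hr : 1 ≤ r)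
    {L E : J.left.Modules} (hL : PicF.IsInvertible L) (hE : FlatMod.IsFinLocFree E) {v : ℕ} (hv : 0 < v)
    (e : Nonempty ((Scheme.Modules.pullback ((𝟙 J) ^ r : J ⟶ J).left).obj E ≅ ∐ fun _ : Fin v => L))
    (H : J.left.Modules) (hH : CohB1.IsAmple H) :
    @ShStab.IsMuSemistable k _ J.left ⟨J.hom⟩ H E g ∧
      ∃ (n : ℕ) (G : Fin n → J.left.Modules), (∀ i, @ShStab.IsMuStable k _ J.left ⟨J.hom⟩ H (G i) g) ∧
        Nonempty (E ≅ ∐ G) := by
  obtain ⟨e⟩ := e
  have hI : IsIntegral J.left := GeometricallyIntegral.isIntegral_of_subsingleton J.hom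
  have hN : IsLocallyNoetherian J.left := LocallyOfFiniteType.isLocallyNoetherian J.hom
  have hfin : IsFinite ((𝟙 J) ^ r : J ⟶ J).left := Grpsch.MulFin.isFinite_pow J r hr
  have hflat : Flat ((𝟙 J) ^ r : J ⟶ J).left := Grpsch.MulFin.flat_pow J r hr
  have hsurj : Surjective ((𝟙 J) ^ r : J ⟶ J).left := Grpsch.MulFin.surjective_pow J r hr
  have hfp : LocallyOfFinitePresentation ((𝟙 J) ^ r : J ⟶ J).left := inferInstance
  obtain ⟨d, hd0, hd⟩ := exists_finrank ((𝟙 J) ^ r : J ⟶ J).left
  have hs := K231.Cov.isSplitMono_unitToPush k ((𝟙 J) ^ r : J ⟶ J).left J.hom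
  let _ : J.left.Over (Spec (CommRingCat.of k)) := ⟨J.hom⟩
  have hp : IsProper (J.left ↘ Spec (CommRingCat.of k)) := inferInstanceAs (IsProper J.hom)
  have hsm : Smooth (J.left ↘ Spec (CommRingCat.of k)) := inferInstanceAs (Smooth J.hom)
  have hE0 : ¬ IsZero E := by
    intro hz
    have h1 : IsZero (∐ fun _ : Fin v => L) :=
      (Functor.map_isZero (Scheme.Modules.pullback ((𝟙 J) ^ r : J ⟶ J).left) hz).of_iso e.symm
    have h2 : IsZero L := by
      rw [IsZero.iff_id_eq_zero]
      have h3 : Sigma.ι (fun _ : Fin v => L) ⟨0, hv⟩ ≫ Sigma.desc (fun _ => 𝟙 L) = 𝟙 L := Sigma.ι_desc _ _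
      rw [← h3, h1.eq_of_tgt (Sigma.ι (fun _ : Fin v => L) ⟨0, hv⟩) 0, Limits.zero_comp]
    have h4 : K848.Hull.rk L = 1 := K848.Hull.rk_structureModule_of_isInvertible hL
    have h5 : K848.Hull.rk L = 0 := by
      rw [K848.Rank.rk_eq_zero_iff (K848.Rank.isCoh_of_isInvertible hL),
        CohqB.DevSupport.support_eq_empty_of_isZero h2]
      exact Set.notMem_empty _
    omega
  exact Polyst.main k ((𝟙 J) ^ r : J ⟶ J).left hd0
    (fun F hF => S7859.result k J J ((𝟙 J) ^ r : J ⟶ J) d hd F hF)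
    (fun F hF => K231.Cov.exists_retract hs (VarietyB.TensCoh.HasBases.of_isFinLocFree hF))
    (fun x => S1535.result k J.left x) hH hdim hdim hL (pw_sigma L v) hE hE0 e.hom e.inv e.hom_inv_id

/-- **F4.** -/
theorem polystable_of_verD [CharZero k] {J : Over (Spec (CommRingCat.of k))} [GrpObj J] {L : J.left.Modules} {g : ℕ}
    (hJ : PPAV g J L) {r m v : ℕ} (hr : 1 ≤ r) {E : J.left.Modules} (hE : VerD J L r m v E) (H : J.left.Modules)
    (hH : CohB1.IsAmple H) :
    @ShStab.IsMuSemistable k _ J.left ⟨J.hom⟩ H E g ∧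
      ∃ (n : ℕ) (G : Fin n → J.left.Modules), (∀ i, @ShStab.IsMuStable k _ J.left ⟨J.hom⟩ H (G i) g) ∧
        Nonempty (E ≅ ∐ G) := by
  have h1 := hJ.proper
  have h2 := hJ.smooth
  have h3 := hJ.gint
  exact polystable_of_pow J hJ.dim hr (Fdesc.LocGen.isInvertible_tensorPow hJ.inv (r * m)) hE.locFree hE.pos hE.iso H hH

end K169.PolyJ
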