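import Groth.Agent.BunMod.K169.PullHp
import Groth.Agent.Desc.FinLocFreeSections
import Groth.Agent.ASBun.K790.KSch
import Groth.Agent.CohqB.AmpGeneric
import Groth.Agent.CycB.LFCoprod2

/-!
# Slope polystability of modules whose pull-back is a direct summand of `L^v` (namespace `K169.Polyst`)

`f : X ⟶ Y` flat, surjective, quasi-compact between integral regular proper `k`-schemes of dimension `n ≥ 1`,
multiplying Euler characteristics by `d > 0` and such that the units `F ⟶ f_* f^* F` (`F` finite locally free) split.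
If `E` is finite locally free and `f^* E` is a direct summand of a finite sum of copies of an invertible module
`L` then `E` is slope-semistable and a finite direct sum of slope-stable modules (`main`).
-/

set_option autoImplicit false
set_option linter.unusedSectionVars false
universe u
open CategoryTheory CategoryTheory.Limits AlgebraicGeometry

namespace K169.Polyst

open K169.Defect K169.SplitPow K169.PullHp
open K848.Rank K848.Hull K848.TF K848.Stab K848.HB StabCat ShStab Groth.Agent
open Groth.Agent.CycB.StalkExact Groth.Agent.Divis.StalkMod Groth.Agent.Divis.ReflexAlg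

section Sat

variable {Y : Scheme.{u}} [IsIntegral Y] [IsLocallyNoetherian Y]

theorem isTorsionFree_dual {F : Y.Modules} (hF : Coh.IsCoh F) : TorSh.IsTorsionFree (RefHull.dual F) := by
  intro x
  have h2 := dual_isTorsionFree (R := Y.presheaf.stalk x) (F.presheaf.stalk x)
  exact (K476.HomSh4.dualStalkEquiv F (K476.HomSh3.isFP_of_isCoh hF) x).injective.moduleIsTorsionFree
    _ (fun a m => map_smul _ a m)

/-- Saturation of a coherent submodule. -/
theorem exists_saturation {F E : Y.Modules} (ι : F ⟶ E) [Mono ι] (hF : Coh.IsCoh F) (hE : Coh.IsCoh E) :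
    ∃ (T Q : Y.Modules) (κ : F ⟶ T) (τ : T ⟶ E) (q : E ⟶ Q) (w : τ ≫ q = 0), Mono κ ∧ Mono τ ∧ Coh.IsCoh T ∧
      Coh.IsCoh Q ∧ TorSh.IsTorsionFree Q ∧ (ShortComplex.mk τ q w).Exact ∧ rk F = rk T := by
  have hC : Coh.IsCoh (cokernel ι) := Groth.Agent.PerfA.CohSerre.isCoh_cokernel ι hF.1 hE
  have hQ : Coh.IsCoh (RefHull.ddual (cokernel ι)) := K476.HomSh4.isCoh_ddual hC
  have hQt : TorSh.IsTorsionFree (RefHull.ddual (cokernel ι)) := isTorsionFree_dual (K476.HomSh4.isCoh_dual hC)
  let q : E ⟶ RefHull.ddual (cokernel ι) := cokernel.π ι ≫ RefHull.bidualMap (cokernel ι)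
  have hT : Coh.IsCoh (kernel q) := Groth.Agent.Sga67.CohBasic.isCoh_kernel q hE hQ.1
  have hw : ι ≫ q = 0 := by
    simp only [q]
    rw [cokernel.condition_assoc, Limits.zero_comp]
  let κ : F ⟶ kernel q := kernel.lift q ι hw
  have hκ : κ ≫ kernel.ι q = ι := kernel.lift_ι _ _ _
  have hκm : Mono κ := by
    have : Mono (κ ≫ kernel.ι q) := by
      rw [hκ]
      infer_instance
    exact mono_of_mono κ (kernel.ι q)
  refine ⟨kernel q, _, κ, kernel.ι q, q, kernel.condition q, hκm, inferInstance, hT, hQ, hQt,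
    ShortComplex.exact_kernel q, ?_⟩
  -- ranks
  have hS : (ShortComplex.mk κ (cokernel.π κ) (cokernel.condition κ)).ShortExact :=
    K847.StabBasic.shortExact_cokernel κ
  have h1 := rk_shortExact hS hT
  dsimp only at h1
  have hCc : Coh.IsCoh (cokernel κ) := Groth.Agent.PerfA.CohSerre.isCoh_cokernel κ hF.1 hT
  suffices h2 : rk (cokernel κ) = 0 by omega
  rw [rk_eq_zero_iff hCc, K848.Hartogs.not_mem_support_cokernel_iff]
  intro t
  have hfree : Module.Free (Y.presheaf.stalk (genericPoint Y)) ((cokernel ι).presheaf.stalk (genericPoint Y)) := by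
    let _ : Field (Y.presheaf.stalk (genericPoint Y)) := inferInstanceAs (Field Y.functionField)
    infer_instance
  have hbij := K476.HomSh4.bijective_stalkMapₗ_bidualMap_of_free hC (genericPoint Y) hfree
  rw [show RefHull.stalkMapₗ (RefHull.bidualMap (cokernel ι)) (genericPoint Y) =
    stalkLin (RefHull.bidualMap (cokernel ι)) (genericPoint Y) from K476.HomSh1.stalkMapₗ_eq _ _] at hbij
  have h3 : stalkLin q (genericPoint Y) (stalkLin (kernel.ι q) (genericPoint Y) t) = 0 := by
    rw [← LinearMap.comp_apply, ← stalkLin_comp, kernel.condition]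
    rw [Groth.Agent.CycB.LFCoprod2.stalkLin_zero]
    rfl
  have h4 : stalkLin (cokernel.π ι) (genericPoint Y) (stalkLin (kernel.ι q) (genericPoint Y) t) = 0 := by
    apply hbij.1
    rw [map_zero, ← h3]
    simp only [q]
    rw [stalkLin_comp]
    rfl
  obtain ⟨s, hs⟩ := (stalkLin_exact (ShortComplex.mk ι (cokernel.π ι) (cokernel.condition ι))
    (ShortComplex.exact_cokernel ι) (genericPoint Y) _).1 h4
  refine ⟨s, ?_⟩
  apply stalkLin_injective (kernel.ι q) (genericPoint Y)
  rw [← hs, ← LinearMap.comp_apply, ← stalkLin_comp, hκ]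

end Sat

section Stab

variable (k : Type u) [Field k] {Y : Scheme.{u}} [Y.Over (Spec (CommRingCat.of k))]
  [IsProper (Y ↘ Spec (CommRingCat.of k))] [IsIntegral Y]
  {H : Y.Modules} (hH : CohB1.IsAmple H) {n : ℕ} (hn : topologicalKrullDim Y = n) {μ : ℚ}

include hH hn

/-- Slope semistability from the defects of the submodules. -/
theorem isMuSemistable_of_nn {E : Y.Modules} (hE : Coh.IsCoh E) (ht : TorSh.IsTorsionFree E) (h0 : ¬ IsZero E)
    (hN : Nn k H n μ E) (hd : dfc k H n μ E = 0) : IsMuSemistable k Y H E n := by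
  have hNY := Groth.Agent.Fga.SnapperTwist.isNoetherian_of_proper k Y
  have hpure := isPure_of_isTorsionFree hn ht
  refine ⟨hE, h0, hpure E (𝟙 E) inferInstance hE h0, fun F ι hι hF => ?_, fun F ι hι hF pF pE hpF hpE h1 h2 => ?_⟩
  · by_cases hz : IsZero F
    · rw [K847.HilbBasic.dim_support_isZero hz]
      simp
    · rw [hpure F ι hι hF hz]
      intro h
      have : n + 1 = n := by exact_mod_cast h
      omega
  · obtain rfl := eq_hp k hpF
    obtain rfl := eq_hp k hpE
    have h3 := hN F ι hι hF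
    unfold dfc at h3 hd
    unfold hatSlope
    rw [div_le_div_iff₀ h1 (h1.trans h2)]
    have h4 : 0 ≤ alpha n (hp k H E) * (μ * alpha n (hp k H F) - alpha (n - 1) (hp k H F)) :=
      mul_nonneg (h1.trans h2).le h3
    have h5 : alpha (n - 1) (hp k H E) = μ * alpha n (hp k H E) := by linarith
    rw [h5]
    linarith

/-- A destabilising submodule of a slope-semistable module which is not slope-stable. -/
theorem exists_destab {E : Y.Modules} (hss : IsMuSemistable k Y H E n) (hd : dfc k H n μ E = 0)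
    (hns : ¬ IsMuStable k Y H E n) : ∃ (F : Y.Modules) (ι : F ⟶ E), Mono ι ∧ Coh.IsCoh F ∧
      0 < rk F ∧ rk F < rk E ∧ dfc k H n μ F ≤ 0 := by
  have h1 : ¬ IsMuSt Coh.IsCoh (IsHilbPoly k Y H) n E := fun h =>
    hns ⟨hss.1, hss.2.1, hss.2.2.1, hss.2.2.2.1, h⟩
  unfold IsMuSt at h1
  push Not at h1
  obtain ⟨F, ι, hι, hF, pF, pE, hpF, hpE, h2, h3, h4⟩ := h1
  obtain rfl := eq_hp k hpF
  obtain rfl := eq_hp k hpE
  refine ⟨F, ι, hι, hF, Nat.pos_of_ne_zero ((alpha_pos_iff k hH hn hF).1 h2),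
    (alpha_lt_iff k hH hn hF hss.1).1 h3, ?_⟩
  unfold hatSlope at h4
  rw [div_le_div_iff₀ (h2.trans h3) h2] at h4
  unfold dfc at hd ⊢
  have h5 : alpha (n - 1) (hp k H E) = μ * alpha n (hp k H E) := by linarith
  rw [h5] at h4
  have h6 : alpha n (hp k H E) * (μ * alpha n (hp k H F)) ≤ alpha n (hp k H E) * alpha (n - 1) (hp k H F) := by
    linarith
  have h7 := le_of_mul_le_mul_left h6 (h2.trans h3)
  linarith

end Stab

section Main

variable (k : Type u) [Field k] {X Y : Scheme.{u}} [X.Over (Spec (CommRingCat.of k))]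
  [Y.Over (Spec (CommRingCat.of k))] [IsProper (X ↘ Spec (CommRingCat.of k))]
  [IsProper (Y ↘ Spec (CommRingCat.of k))] [IsIntegral X] [IsIntegral Y] (f : X ⟶ Y) [Flat f] [Surjective f]
  [QuasiCompact f] [IsAffineHom f] {d : ℕ} (hd0 : 0 < d)
  (hχ : ∀ F : Y.Modules, Coh.IsCoh F →
    Curv2.euler k X ((Scheme.Modules.pullback f).obj F) = d * Curv2.euler k Y F)
  (htr : ∀ F : Y.Modules, FlatMod.IsFinLocFree F →
    ∃ p, (Scheme.Modules.pullbackPushforwardAdjunction f).unit.app F ≫ p = 𝟙 F)
  (hregX : ∀ x : X, IsRegularLocalRing (X.presheaf.stalk x))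
  {H : Y.Modules} (hH : CohB1.IsAmple H) {n : ℕ} (hnX : topologicalKrullDim X = n)
  (hnY : topologicalKrullDim Y = n) {L : X.Modules} (hL : PicF.IsInvertible L) {μ : ℚ}
  (hμ : dfc k ((Scheme.Modules.pullback f).obj H) n μ L = 0)

include hχ htr hregX hH hnX hnY hL hμ in
/-- A saturated submodule of defect zero is a finite locally free direct summand. -/
theorem exists_retraction {P : X.Modules} (hP : Pw L P) {F E Q : Y.Modules}
    (i : (Scheme.Modules.pullback f).obj E ⟶ P) (s : P ⟶ (Scheme.Modules.pullback f).obj E) (his : i ≫ s = 𝟙 _)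
    (hF : Coh.IsCoh F) (hQ : Coh.IsCoh Q) (hQt : TorSh.IsTorsionFree Q) (τ : F ⟶ E) (q : E ⟶ Q) [Mono τ]
    (w : τ ≫ q = 0) (hex : (ShortComplex.mk τ q w).Exact) (hd : dfc k H n μ F = 0) :
    ∃ σ : E ⟶ F, τ ≫ σ = 𝟙 F := by
  have hNX := Groth.Agent.Fga.SnapperTwist.isNoetherian_of_proper k X
  have hNY := Groth.Agent.Fga.SnapperTwist.isNoetherian_of_proper k Y
  have hHX : CohB1.IsAmple ((Scheme.Modules.pullback f).obj H) := CohqB.AmpCocycle.isAmple_pullback f hH
  have him : Mono i := by
    have : Mono (i ≫ s) := by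
      rw [his]
      infer_instance
    exact mono_of_mono i s
  -- the pull-backs
  have hEX : FlatMod.IsFinLocFree ((Scheme.Modules.pullback f).obj E) :=
    Groth.Agent.Dcoh.Spread.isFinLocFree_of_retract i s his (hP.isFinLocFree hL)
  have hEXc : Coh.IsCoh ((Scheme.Modules.pullback f).obj E) := PerfA.CohSerre.isCoh_of_isFinLocFree hEX
  have hFX : Coh.IsCoh ((Scheme.Modules.pullback f).obj F) := FormalB.PullCoh.isCoh_pullback f hF
  have hQX : TorSh.IsTorsionFree ((Scheme.Modules.pullback f).obj Q) :=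
    K22.Pull.isTorsionFree_pullback f hQ hQt
  have hexX := hex.map (Scheme.Modules.pullback f)
  have hFr : RefHull.IsReflexive ((Scheme.Modules.pullback f).obj F) :=
    isReflexive_of_exact hFX hEXc (isReflexive_of_isFinLocFree hEX) hQX ((Scheme.Modules.pullback f).map τ)
      ((Scheme.Modules.pullback f).map q) _ hexX
  obtain ⟨ρ, hρ⟩ := (SplitPow.main k hregX hHX hnX hL hμ hP).2 _ ((Scheme.Modules.pullback f).map τ ≫ i)
    (mono_comp _ _) hFX hFr (by rw [dfc_pullback k f hχ hH.1 hF, hd, mul_zero])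
  rw [Category.assoc] at hρ
  -- `F` is finite locally free
  have hFX' : FlatMod.IsFinLocFree ((Scheme.Modules.pullback f).obj F) :=
    Groth.Agent.Dcoh.Spread.isFinLocFree_of_retract _ _ hρ hEX
  have hFf : FlatMod.IsFinLocFree F := Desc.FinLocFreeSections.isFinLocFree_of_pullback f F hF.1 hFX'
  -- averaging
  obtain ⟨p, hp⟩ := htr F hFf
  refine ⟨(Scheme.Modules.pullbackPushforwardAdjunction f).unit.app E ≫
    (Scheme.Modules.pushforward f).map (i ≫ ρ) ≫ p, ?_⟩
  have h1 := (Scheme.Modules.pullbackPushforwardAdjunction f).unit.naturality τ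
  simp only [Functor.id_obj, Functor.id_map, Functor.comp_map] at h1
  rw [reassoc_of% h1, ← Functor.map_comp_assoc, hρ, CategoryTheory.Functor.map_id, Category.id_comp, hp]

include hd0 hχ htr hregX hH hnX hnY hL hμ in
/-- An indecomposable member of the class is slope-stable. -/
theorem isMuStable_of_indec {P : X.Modules} (hP : Pw L P) {E : Y.Modules} (hE : FlatMod.IsFinLocFree E)
    (i : (Scheme.Modules.pullback f).obj E ⟶ P) (s : P ⟶ (Scheme.Modules.pullback f).obj E) (his : i ≫ s = 𝟙 _)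
    (hI : K790.KS.Indec E) : IsMuStable k Y H E n := by
  have hNX := Groth.Agent.Fga.SnapperTwist.isNoetherian_of_proper k X
  have hNY := Groth.Agent.Fga.SnapperTwist.isNoetherian_of_proper k Y
  have hHX : CohB1.IsAmple ((Scheme.Modules.pullback f).obj H) := CohqB.AmpCocycle.isAmple_pullback f hH
  have him : Mono i := by
    have : Mono (i ≫ s) := by
      rw [his]
      infer_instance
    exact mono_of_mono i s
  have hEc : Coh.IsCoh E := PerfA.CohSerre.isCoh_of_isFinLocFree hE
  have hEt : TorSh.IsTorsionFree E := isTorsionFree_of_isFinLocFree hE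
  have hPN := (SplitPow.main k hregX hHX hnX hL hμ hP).1
  have hP0 := dfc_pw k hHX.1 hL hμ hP
  have hEN : Nn k H n μ E := nn_of_pullback k f hχ hH.1 hd0 (hPN.of_mono i)
  have hE0 : dfc k H n μ E = 0 := by
    have h1 := dfc_eq_zero_of_retract k hHX.1 hPN hP0 (hP.isCoh hL) i s his
    rw [dfc_pullback k f hχ hH.1 hEc] at h1
    have : (d : ℚ) ≠ 0 := by exact_mod_cast hd0.ne'
    exact (mul_eq_zero.1 h1).resolve_left this
  have hss := isMuSemistable_of_nn k hH hnY hEc hEt hI.1 hEN hE0
  by_contra hns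
  obtain ⟨F, ι, hι, hF, hr1, hr2, hdF⟩ := exists_destab k hH hnY hss hE0 hns
  obtain ⟨T, Q, κ, τ, q, w, hκ, hτ, hT, hQ, hQt, hex, hrk⟩ := exists_saturation ι hF hEc
  have hT0 : dfc k H n μ T = 0 :=
    le_antisymm ((dfc_le_of_rk_eq k hH hnY μ κ hF hT hrk).trans hdF) (hEN T τ hτ hT)
  obtain ⟨σ, hσ⟩ := exists_retraction k f hχ htr hregX hH hnX hnY hL hμ hP i s his hT hQ hQt τ q w hex hT0
  have hS : (ShortComplex.mk τ (cokernel.π τ) (cokernel.condition τ)).ShortExact :=
    K847.StabBasic.shortExact_cokernel τ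
  have hrk' := rk_shortExact hS hEc
  dsimp only at hrk'
  rcases hI.2 _ _ ⟨(ShortComplex.Splitting.ofExactOfRetraction _ hS.exact σ hσ hS.epi_g).isoBinaryBiproduct⟩ with
    hz | hz
  · have h1 : rk T = 0 := by
      rw [rk_eq_zero_iff hT, CohqB.DevSupport.support_eq_empty_of_isZero hz]
      exact Set.notMem_empty _
    omega
  · have h1 : rk (cokernel τ) = 0 := by
      rw [rk_eq_zero_iff (K847.StabBasic.isCoh_cokernel' k τ hT hEc)]
      rw [CohqB.DevSupport.support_eq_empty_of_isZero hz]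
      exact Set.notMem_empty _
    omega

include hd0 hχ htr hregX hH hnX hnY hL in
/-- **Slope polystability.** -/
theorem main {P : X.Modules} (hP : Pw L P) {E : Y.Modules} (hE : FlatMod.IsFinLocFree E)
    (hE0 : ¬ IsZero E) (i : (Scheme.Modules.pullback f).obj E ⟶ P) (s : P ⟶ (Scheme.Modules.pullback f).obj E)
    (his : i ≫ s = 𝟙 _) :
    IsMuSemistable k Y H E n ∧ ∃ (m : ℕ) (G : Fin m → Y.Modules), (∀ i, IsMuStable k Y H (G i) n) ∧
      Nonempty (E ≅ ∐ G) := by
  classical
  have hNX := Groth.Agent.Fga.SnapperTwist.isNoetherian_of_proper k X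
  have hNY := Groth.Agent.Fga.SnapperTwist.isNoetherian_of_proper k Y
  have hHX : CohB1.IsAmple ((Scheme.Modules.pullback f).obj H) := CohqB.AmpCocycle.isAmple_pullback f hH
  have hEc : Coh.IsCoh E := PerfA.CohSerre.isCoh_of_isFinLocFree hE
  -- the slope of `L`
  let μ : ℚ := alpha (n - 1) (hp k ((Scheme.Modules.pullback f).obj H) L) /
    alpha n (hp k ((Scheme.Modules.pullback f).obj H) L)
  have hμ : dfc k ((Scheme.Modules.pullback f).obj H) n μ L = 0 := by
    have h1 : 0 < alpha n (hp k ((Scheme.Modules.pullback f).obj H) L) := by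
      rw [alpha_pos_iff k hHX hnX (isCoh_of_isInvertible hL), rk_structureModule_of_isInvertible hL]
      exact one_ne_zero
    unfold dfc
    simp only [μ]
    rw [div_mul_cancel₀ _ h1.ne', sub_self]
  have him : Mono i := by
    have : Mono (i ≫ s) := by
      rw [his]
      infer_instance
    exact mono_of_mono i s
  have hPN := (SplitPow.main k hregX hHX hnX hL hμ hP).1
  have hEN : Nn k H n μ E := nn_of_pullback k f hχ hH.1 hd0 (hPN.of_mono i)
  have hEd : dfc k H n μ E = 0 := by
    have h1 := dfc_eq_zero_of_retract k hHX.1 hPN (dfc_pw k hHX.1 hL hμ hP) (hP.isCoh hL) i s his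
    rw [dfc_pullback k f hχ hH.1 hEc] at h1
    have : (d : ℚ) ≠ 0 := by exact_mod_cast hd0.ne'
    exact (mul_eq_zero.1 h1).resolve_left this
  refine ⟨isMuSemistable_of_nn k hH hnY hEc (isTorsionFree_of_isFinLocFree hE) hE0 hEN hEd, ?_⟩
  obtain ⟨m, G, hG, ⟨e⟩⟩ := K790.KSch.exists_decomp k (Y ↘ Spec (CommRingCat.of k)) E hEc
  refine ⟨m, G, fun j => ?_, ⟨e⟩⟩
  let a : G j ⟶ E := Sigma.ι G j ≫ e.inv
  let b : E ⟶ G j := e.hom ≫ Sigma.desc (fun l => if h : l = j then eqToHom (by rw [h]) else 0)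
  have hab : a ≫ b = 𝟙 _ := by simp [a, b]
  refine isMuStable_of_indec k f hd0 hχ htr hregX hH hnX hnY hL hμ hP
    (Groth.Agent.Dcoh.Spread.isFinLocFree_of_retract a b hab hE) ((Scheme.Modules.pullback f).map a ≫ i)
    (s ≫ (Scheme.Modules.pullback f).map b) ?_ (hG j)
  rw [Category.assoc, reassoc_of% his, ← Functor.map_comp, hab, CategoryTheory.Functor.map_id]

end Main

end K169.Polyst
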