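import Groth.Agent.BunMod.K169.SplitPow
import Groth.Agent.ASBun.K791.Tens
import Groth.Agent.CohqB.FinAmple
import Groth.Agent.TFOne.K22.Pull
import Groth.Agent.PerfB.FlatPull
import Groth.Agent.ASBun.K790.BC
import Groth.Agent.AbSch.K450.EulerPull

/-!
# Hilbert polynomials and defects under a morphism multiplying Euler characteristics (namespace `K169.PullHp`)

`f : X ⟶ Y` with `χ(X, f^* F) = d · χ(Y, F)` for coherent `F`: `hp_pullback`, `dfc_pullback`, `Nn.of_pullback`,
`dfc_eq_zero_of_retract`.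
-/

set_option autoImplicit false
universe u
open CategoryTheory CategoryTheory.Limits AlgebraicGeometry Polynomial

set_option linter.unusedSectionVars false

namespace K169.PullHp

open K169.Defect K169.SplitPow K848.HB StabCat ShStab Groth.Agent

variable (k : Type u) [Field k] {X Y : Scheme.{u}} [X.Over (Spec (CommRingCat.of k))]
  [Y.Over (Spec (CommRingCat.of k))] [IsProper (X ↘ Spec (CommRingCat.of k))]
  [IsProper (Y ↘ Spec (CommRingCat.of k))] (f : X ⟶ Y) {d : ℕ}
  (hχ : ∀ F : Y.Modules, Coh.IsCoh F →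
    Curv2.euler k X ((Scheme.Modules.pullback f).obj F) = d * Curv2.euler k Y F)
  {H : Y.Modules} (hH : PicF.IsInvertible H)

omit [X.Over (Spec (CommRingCat.of k))] [Y.Over (Spec (CommRingCat.of k))]
  [IsProper (X ↘ Spec (CommRingCat.of k))] [IsProper (Y ↘ Spec (CommRingCat.of k))] in
include hH in
theorem nonempty_pullback_twist (F : Y.Modules) (m : ℕ) :
    Nonempty ((Scheme.Modules.pullback f).obj (twist Y H F m) ≅
      twist X ((Scheme.Modules.pullback f).obj H) ((Scheme.Modules.pullback f).obj F) m) := by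
  obtain ⟨e⟩ := CohqB.FinAmple.nonempty_pullback_tensorPow f hH m
  exact ⟨ASBun.K791.Tens.pullTens f _ _ ≪≫ ASBun.K791.Tens.tensMap (Iso.refl _) e⟩

include hχ hH in
theorem isHilbPoly_pullback {F : Y.Modules} (hF : Coh.IsCoh F) {P : ℚ[X]} (hP : IsHilbPoly k Y H F P) :
    IsHilbPoly k X ((Scheme.Modules.pullback f).obj H) ((Scheme.Modules.pullback f).obj F) ((d : ℚ) • P) := by
  intro m
  obtain ⟨e⟩ := nonempty_pullback_twist f hH F m
  have hc : Coh.IsCoh (twist Y H F m) := isCoh_twist hH hF m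
  rw [← K847.HilbBasic.euler_congr k e, hχ _ hc, eval_smul, smul_eq_mul, ← hP m]
  push_cast
  rfl

include hχ hH in
theorem hp_pullback {F : Y.Modules} (hF : Coh.IsCoh F) :
    hp k ((Scheme.Modules.pullback f).obj H) ((Scheme.Modules.pullback f).obj F) = (d : ℚ) • hp k H F :=
  (eq_hp k (isHilbPoly_pullback k f hχ hH hF (isHilbPoly_hp k hH hF))).symm

include hχ hH in
theorem dfc_pullback {F : Y.Modules} (hF : Coh.IsCoh F) (n : ℕ) (μ : ℚ) :
    dfc k ((Scheme.Modules.pullback f).obj H) n μ ((Scheme.Modules.pullback f).obj F) = d * dfc k H n μ F := by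
  unfold dfc alpha
  rw [hp_pullback k f hχ hH hF, coeff_smul, coeff_smul, smul_eq_mul, smul_eq_mul]
  ring

include hχ hH in
theorem nn_of_pullback [Flat f] (hd : 0 < d) {n : ℕ} {μ : ℚ} {F : Y.Modules}
    (h : Nn k ((Scheme.Modules.pullback f).obj H) n μ ((Scheme.Modules.pullback f).obj F)) : Nn k H n μ F := by
  intro G i hi hG
  have h1 := h _ ((Scheme.Modules.pullback f).map i) inferInstance (FormalB.PullCoh.isCoh_pullback f hG)
  rw [dfc_pullback k f hχ hH hG] at h1
  have : (0 : ℚ) < d := by exact_mod_cast hd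
  exact nonneg_of_mul_nonneg_right h1 this

end K169.PullHp

namespace K169.PullHp

open K169.Defect K169.SplitPow K848.HB StabCat ShStab Groth.Agent

variable (k : Type u) [Field k] {X : Scheme.{u}} [X.Over (Spec (CommRingCat.of k))]
  [IsProper (X ↘ Spec (CommRingCat.of k))] {H : X.Modules}

theorem dfc_pw (hH : PicF.IsInvertible H) {n : ℕ} {μ : ℚ} {L P : X.Modules} (hL : PicF.IsInvertible L)
    (h0 : dfc k H n μ L = 0) (hP : Pw L P) : dfc k H n μ P = 0 := by
  induction hP with
  | zero P h => exact dfc_isZero k hH h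
  | step P' P hP i₁ p₁ i₂ p₂ h₁ h₂ h₁₂ h ih =>
    have hS : (ShortComplex.mk i₁ p₂ h₁₂).ShortExact :=
      ShortComplex.Splitting.shortExact { r := p₁, s := i₂, f_r := h₁, s_g := h₂, id := h }
    have := dfc_add k (n := n) (μ := μ) hH hS (hP.isCoh hL)
      ((Pw.step P' P hP i₁ p₁ i₂ p₂ h₁ h₂ h₁₂ h).isCoh hL) (K848.Rank.isCoh_of_isInvertible hL)
    dsimp only at this
    rw [this, ih, h0, add_zero]

/-- A direct summand of a module with non-negative submodule defects and defect zero has defect zero. -/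
theorem dfc_eq_zero_of_retract (hH : PicF.IsInvertible H) {n : ℕ} {μ : ℚ} {A P : X.Modules}
    (hN : Nn k H n μ P) (h0 : dfc k H n μ P = 0) (hP : Coh.IsCoh P) (i : A ⟶ P) (q : P ⟶ A) (h : i ≫ q = 𝟙 A) :
    dfc k H n μ A = 0 := by
  have hi : Mono i := by
    have : Mono (i ≫ q) := by
      rw [h]
      infer_instance
    exact mono_of_mono i q
  have hA : Coh.IsCoh A := K790.BC.isCoh_of_retract hP i q h
  have hS : (ShortComplex.mk i (cokernel.π i) (cokernel.condition i)).ShortExact :=
    K847.StabBasic.shortExact_cokernel i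
  have hC : Coh.IsCoh (cokernel i) := K847.StabBasic.isCoh_cokernel' k i hA hP
  have hw : i ≫ (𝟙 P - q ≫ i) = 0 := by
    rw [Preadditive.comp_sub, ← Category.assoc, h, Category.comp_id, Category.id_comp, sub_self]
  have hj : cokernel.π i ≫ cokernel.desc i (𝟙 P - q ≫ i) hw = 𝟙 P - q ≫ i := cokernel.π_desc _ _ _
  have hjp : cokernel.desc i (𝟙 P - q ≫ i) hw ≫ cokernel.π i = 𝟙 _ := by
    rw [← cancel_epi (cokernel.π i), ← Category.assoc, hj, Preadditive.sub_comp, Category.id_comp, Category.assoc,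
      cokernel.condition, Limits.comp_zero, sub_zero, Category.comp_id]
  have hm : Mono (cokernel.desc i (𝟙 P - q ≫ i) hw) := by
    have : Mono (cokernel.desc i (𝟙 P - q ≫ i) hw ≫ cokernel.π i) := by
      rw [hjp]
      infer_instance
    exact mono_of_mono _ (cokernel.π i)
  have h1 := hN A i hi hA
  have h2 := hN _ _ hm hC
  have h3 := dfc_add k (n := n) (μ := μ) hH hS hA hP hC
  dsimp only at h3
  linarith

end K169.PullHp
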