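import Groth.Agent.BunMod.K169.Defect
import Groth.Agent.Dcoh.Spread

/-!
# Reflexive submodules of `L^v` of the same slope are direct summands (namespace `K169.SplitPow`)

`X` integral, proper over a field `k`, with regular local rings, of dimension `n`; `L` invertible.
* `Pw L P`: `P` is a finite direct sum of copies of `L` (built up one copy at a time); `pw_sigma`;
* `main`: with `μ` the slope of `L`, every coherent submodule of `P` has defect at least zero, and every
  coherent reflexive submodule of defect zero is a direct summand.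
-/

set_option autoImplicit false
universe u
open CategoryTheory CategoryTheory.Limits AlgebraicGeometry

namespace K169.SplitPow

open K169.Defect K848.Rank K848.Hull K848.TF K848.Stab K848.HB

section Pw

variable {X : Scheme.{u}}

/-- `P` is a finite direct sum of copies of `L`. -/
inductive Pw (L : X.Modules) : X.Modules → Prop
  | zero (P : X.Modules) (h : IsZero P) : Pw L P
  | step (P' P : X.Modules) (hP : Pw L P') (i₁ : P' ⟶ P) (p₁ : P ⟶ P') (i₂ : L ⟶ P) (p₂ : P ⟶ L)
      (h₁ : i₁ ≫ p₁ = 𝟙 P') (h₂ : i₂ ≫ p₂ = 𝟙 L) (h₁₂ : i₁ ≫ p₂ = 0) (h : p₁ ≫ i₁ + p₂ ≫ i₂ = 𝟙 P) : Pw L P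

theorem Pw.isFinLocFree {L P : X.Modules} (hL : PicF.IsInvertible L) (h : Pw L P) : FlatMod.IsFinLocFree P := by
  induction h with
  | zero P h =>
    refine Groth.Agent.Dcoh.Spread.isFinLocFree_of_retract (F := L) 0 0 (h.eq_of_src _ _)
      (isFinLocFree_of_isInvertible hL)
  | step P' P hP i₁ p₁ i₂ p₂ h₁ h₂ h₁₂ h ih =>
    refine Groth.Agent.Dcoh.Spread.isFinLocFree_of_retract (F := P' ⊞ L) (biprod.lift p₁ p₂)
      (biprod.desc i₁ i₂) ?_
      (Groth.Agent.Dcoh.FinLocFree.isFinLocFree_biprod ih (isFinLocFree_of_isInvertible hL))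
    rw [biprod.lift_desc, h]

theorem Pw.isCoh {L P : X.Modules} (hL : PicF.IsInvertible L) (h : Pw L P) : Coh.IsCoh P :=
  Groth.Agent.PerfA.CohSerre.isCoh_of_isFinLocFree (h.isFinLocFree hL)

theorem pw_sigma (L : X.Modules) (v : ℕ) : Pw L (∐ fun _ : Fin v => L) := by
  induction v with
  | zero =>
    refine Pw.zero _ ?_
    rw [IsZero.iff_id_eq_zero]
    exact Sigma.hom_ext _ _ fun i => i.elim0
  | succ v ih =>
    let i₁ : (∐ fun _ : Fin v => L) ⟶ (∐ fun _ : Fin (v + 1) => L) :=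
      Sigma.desc fun j => Sigma.ι (fun _ : Fin (v + 1) => L) j.castSucc
    let p₁ : (∐ fun _ : Fin (v + 1) => L) ⟶ (∐ fun _ : Fin v => L) :=
      Sigma.desc fun j => Fin.lastCases (motive := fun _ => L ⟶ (∐ fun _ : Fin v => L)) 0
        (fun i => Sigma.ι (fun _ : Fin v => L) i) j
    let p₂ : (∐ fun _ : Fin (v + 1) => L) ⟶ L :=
      Sigma.desc fun j => Fin.lastCases (motive := fun _ => L ⟶ L) (𝟙 L) (fun _ => 0) j
    refine Pw.step _ _ ih i₁ p₁ (Sigma.ι (fun _ : Fin (v + 1) => L) (Fin.last v)) p₂ ?_ ?_ ?_ ?_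
    · refine Sigma.hom_ext _ _ fun i => ?_
      simp [i₁, p₁]
    · simp [p₂]
    · refine Sigma.hom_ext _ _ fun i => ?_
      simp [i₁, p₂]
    · refine Sigma.hom_ext _ _ fun i => ?_
      rw [Preadditive.comp_add]
      induction i using Fin.lastCases with
      | last => simp [p₁, p₂]
      | cast i => simp [i₁, p₁, p₂]

theorem Pw.of_iso {L P Q : X.Modules} (h : Pw L P) (e : P ≅ Q) : Pw L Q := by
  cases h with
  | zero _ h => exact Pw.zero _ (h.of_iso e.symm)
  | step P' _ hP i₁ p₁ i₂ p₂ h₁ h₂ h₁₂ h =>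
    refine Pw.step P' Q hP (i₁ ≫ e.hom) (e.inv ≫ p₁) (i₂ ≫ e.hom) (e.inv ≫ p₂) ?_ ?_ ?_ ?_
    · rw [Category.assoc, e.hom_inv_id_assoc, h₁]
    · rw [Category.assoc, e.hom_inv_id_assoc, h₂]
    · rw [Category.assoc, e.hom_inv_id_assoc, h₁₂]
    · have : e.inv ≫ (p₁ ≫ i₁ + p₂ ≫ i₂) ≫ e.hom = 𝟙 Q := by rw [h, Category.id_comp, e.inv_hom_id]
      rw [Preadditive.add_comp, Preadditive.comp_add] at this
      simpa only [Category.assoc] using this

end Pw

variable (k : Type u) [Field k] {X : Scheme.{u}} [X.Over (Spec (CommRingCat.of k))]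
  [IsProper (X ↘ Spec (CommRingCat.of k))] [IsIntegral X] {H : X.Modules} {n : ℕ}

theorem main (hreg : ∀ x : X, IsRegularLocalRing (X.presheaf.stalk x)) (hH : CohB1.IsAmple H)
    (hn : topologicalKrullDim X = n) {L : X.Modules} (hL : PicF.IsInvertible L) {μ : ℚ}
    (h0 : dfc k H n μ L = 0) {P : X.Modules} (hP : Pw L P) :
    Nn k H n μ P ∧ ∀ (T : X.Modules) (ι : T ⟶ P), Mono ι → Coh.IsCoh T → RefHull.IsReflexive T →
      dfc k H n μ T = 0 → ∃ ρ : P ⟶ T, ι ≫ ρ = 𝟙 T := by
  have hN := Groth.Agent.Fga.SnapperTwist.isNoetherian_of_proper k X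
  have hLn : Nn k H n μ L := Nn.of_isInvertible k hH hn hL h0.ge
  have hLc := isCoh_of_isInvertible hL
  have hLf := isFinLocFree_of_isInvertible hL
  have hLt : TorSh.IsTorsionFree L := isTorsionFree_of_isFinLocFree hLf
  have hLr := isReflexive_of_isFinLocFree hLf
  have hL1 : rk L = 1 := rk_structureModule_of_isInvertible hL
  induction hP with
  | zero P h =>
    exact ⟨Nn.of_isZero k hH.1 h, fun T ι _ _ _ _ => ⟨0, (IsZero.of_mono ι h).eq_of_src _ _⟩⟩
  | step P' P hP i₁ p₁ i₂ p₂ h₁ h₂ h₁₂ h ih =>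
    obtain ⟨ihN, ihS⟩ := ih
    have hS : (ShortComplex.mk i₁ p₂ h₁₂).ShortExact :=
      ShortComplex.Splitting.shortExact { r := p₁, s := i₂, f_r := h₁, s_g := h₂, id := h }
    have hPN : Nn k H n μ P := Nn.ext k hH.1 hS hLc ihN hLn
    refine ⟨hPN, fun T ι hι hT hTr hT0 => ?_⟩
    let u := ι ≫ p₂
    have hK : Coh.IsCoh (kernel u) := K847.StabBasic.isCoh_kernel' k u hT hLc
    have hI : Coh.IsCoh (Abelian.image u) :=
      K847.StabBasic.isCoh_kernel' k _ hLc (K847.StabBasic.isCoh_cokernel' k u hT hLc)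
    have hex := shortExact_image u
    let κ : kernel u ⟶ P' := kernel.ι u ≫ ι ≫ p₁
    have hκ : κ ≫ i₁ = kernel.ι u ≫ ι := by
      have h3 : kernel.ι u ≫ ι ≫ p₂ = 0 := kernel.condition u
      have h4 : κ ≫ i₁ = kernel.ι u ≫ ι ≫ (p₁ ≫ i₁ + p₂ ≫ i₂) := by
        rw [Preadditive.comp_add, Preadditive.comp_add]
        simp only [κ, Category.assoc]
        rw [reassoc_of% h3, Limits.zero_comp, add_zero]
      rw [h4, h, Category.comp_id]
    have hκm : Mono κ := by
      have : Mono (κ ≫ i₁) := by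
        rw [hκ]
        exact mono_comp _ _
      exact mono_of_mono κ i₁
    have hadd := dfc_add k (n := n) (μ := μ) hH.1 hex hK hT hI
    dsimp only at hadd
    have hK1 := ihN (kernel u) κ hκm hK
    have hI1 := hLn (Abelian.image u) (Abelian.image.ι u) inferInstance hI
    have hK0 : dfc k H n μ (kernel u) = 0 := by linarith
    have hI0 : dfc k H n μ (Abelian.image u) = 0 := by linarith
    have hKr : RefHull.IsReflexive (kernel u) :=
      isReflexive_of_exact hK hT hTr hLt (kernel.ι u) u (kernel.condition u) (ShortComplex.exact_kernel u)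
    obtain ⟨ρ', hρ'⟩ := ihS (kernel u) κ hκm hK hKr hK0
    let e : T ⟶ kernel u := ι ≫ p₁ ≫ ρ'
    have he : kernel.ι u ≫ e = 𝟙 (kernel u) := by
      rw [← hρ']
      simp only [e, κ, Category.assoc]
    let p := Abelian.factorThruImage u
    have hp : Epi p := inferInstanceAs (Epi (Abelian.factorThruImage u))
    have hkp : kernel.ι u ≫ p = 0 := kernel_factorThruImage u
    have hfac : p ≫ Abelian.image.ι u = u := Abelian.image.fac u
    have hw : kernel.ι u ≫ (𝟙 T - e ≫ kernel.ι u) = 0 := by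
      rw [Preadditive.comp_sub, Category.comp_id, ← Category.assoc, he, Category.id_comp, sub_self]
    have hepi : Epi (ShortComplex.mk (kernel.ι u) (Abelian.factorThruImage u) (kernel_factorThruImage u)).g := hp
    let j : Abelian.image u ⟶ T := hex.exact.desc (𝟙 T - e ≫ kernel.ι u) hw
    have hj : p ≫ j = 𝟙 T - e ≫ kernel.ι u := hex.exact.g_desc _ _
    have hjp : j ≫ p = 𝟙 _ := by
      rw [← cancel_epi p, ← Category.assoc, hj, Preadditive.sub_comp, Category.id_comp, Category.assoc, hkp,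
        Limits.comp_zero, sub_zero, Category.comp_id]
    have hIr : RefHull.IsReflexive (Abelian.image u) := isReflexive_of_retract hT hI j p hjp hTr
    by_cases hz : IsZero (Abelian.image u)
    · refine ⟨p₁ ≫ ρ' ≫ kernel.ι u, ?_⟩
      have h5 : p ≫ j = 0 := by rw [hz.eq_of_tgt p 0, Limits.zero_comp]
      rw [h5] at hj
      have h6 : ι ≫ p₁ ≫ ρ' ≫ kernel.ι u = e ≫ kernel.ι u := by simp only [e, Category.assoc]
      rw [h6]
      exact (sub_eq_zero.mp hj.symm).symm
    · have hr1 : rk (Abelian.image u) ≠ 0 := rk_ne_zero (Abelian.image.ι u) hI hLt hz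
      have hr2 := rk_le_of_mono (Abelian.image.ι u) hLc
      have hiso : IsIso (Abelian.image.ι u) :=
        isIso_of_dfc k hreg hH hn μ (Abelian.image.ι u) hI hLc hIr hLr (by omega) (by rw [hI0, h0])
      refine ⟨p₁ ≫ ρ' ≫ kernel.ι u + p₂ ≫ inv (Abelian.image.ι u) ≫ j, ?_⟩
      have h6 : ι ≫ p₁ ≫ ρ' ≫ kernel.ι u = e ≫ kernel.ι u := by simp only [e, Category.assoc]
      have h7 : ι ≫ p₂ ≫ inv (Abelian.image.ι u) ≫ j = p ≫ j := by
        have h8 : ι ≫ p₂ = p ≫ Abelian.image.ι u := hfac.symm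
        rw [reassoc_of% h8, IsIso.hom_inv_id_assoc]
      rw [Preadditive.comp_add, h6, h7, hj]
      abel

end K169.SplitPow
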